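import Cfsg.Agent.Lib.Perm.AltSylowTwo.Model

/-!
The model embedded as a Sylow 2-subgroup of the alternating group of degree `4 * k + j`.
-/

set_option autoImplicit false

namespace Cfsg.Agent.Perm.AltSylowTwo

open Equiv

theorem sigmaCongrRight_mulSingle_swap {ι : Type*} {β : ι → Type*} [DecidableEq ι]
    [∀ i, DecidableEq (β i)] (i : ι) (x y : β i) :
    Perm.sigmaCongrRightHom β (Pi.mulSingle i (Equiv.swap x y)) =
      Equiv.swap (⟨i, x⟩ : Σ i, β i) ⟨i, y⟩ := by
  apply Equiv.ext
  rintro ⟨k, z⟩
  change (⟨k, (Pi.mulSingle i (Equiv.swap x y) : ∀ k, Perm (β k)) k z⟩ : Σ i, β i) = _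
  rcases eq_or_ne k i with rfl | hk
  · rw [Pi.mulSingle_eq_same]
    by_cases hx : z = x
    · subst hx
      rw [Equiv.swap_apply_left, Equiv.swap_apply_left]
    by_cases hy : z = y
    · subst hy
      rw [Equiv.swap_apply_right, Equiv.swap_apply_right]
    rw [Equiv.swap_apply_of_ne_of_ne hx hy, Equiv.swap_apply_of_ne_of_ne]
    · exact fun h => hx (eq_of_heq (Sigma.mk.inj h).2)
    · exact fun h => hy (eq_of_heq (Sigma.mk.inj h).2)
  · rw [Pi.mulSingle_eq_of_ne hk, Equiv.swap_apply_of_ne_of_ne]
    · rfl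
    · exact fun h => hk (Sigma.mk.inj h).1
    · exact fun h => hk (Sigma.mk.inj h).1

theorem sign_sigmaCongrRightHom {ι : Type*} {β : ι → Type*} [Fintype ι] [DecidableEq ι]
    [∀ i, Fintype (β i)] [∀ i, DecidableEq (β i)] (f : ∀ i, Perm (β i)) :
    Perm.sign (Perm.sigmaCongrRightHom β f) = ∏ i, Perm.sign (f i) := by
  have h : f ∈ MonoidHom.eqLocus (Perm.sign.comp (Perm.sigmaCongrRightHom β))
      (totalSign fun i => (Perm.sign : Perm (β i) →* ℤˣ)) := by
    refine Subgroup.pi_mem_of_mulSingle_mem f fun i => ?_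
    change Perm.sign (Perm.sigmaCongrRightHom β (Pi.mulSingle i (f i))) =
      totalSign (fun i => (Perm.sign : Perm (β i) →* ℤˣ)) (Pi.mulSingle i (f i))
    rw [totalSign_mulSingle]
    induction f i using Perm.swap_induction_on with
    | one => simp
    | swap_mul g x y hxy ih =>
      rw [Pi.mulSingle_mul, map_mul, map_mul, map_mul, ih, sigmaCongrRight_mulSingle_swap,
        Perm.sign_swap hxy, Perm.sign_swap (fun h => hxy (eq_of_heq (Sigma.mk.inj h).2))]
  exact (show Perm.sign (Perm.sigmaCongrRightHom β f) = totalSign _ f from h).trans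
    (totalSign_apply _ f)

/-- the binary exponents of `k` -/
abbrev Bits (k : ℕ) : Type := {i : ℕ // i ∈ k.bitIndices.toFinset}

/-- the points moved by the model -/
abbrev Block (k : ℕ) : Type := Σ i : Bits k, Pts (i.1 + 2)

/-- the model -/
abbrev Mdl (k : ℕ) : Type := ∀ i : Bits k, wt (i.1 + 2)

/-- the model acting -/
def mdlHom (k : ℕ) : Mdl k →* Perm (Block k) :=
  (Perm.sigmaCongrRightHom fun i : Bits k => Pts (i.1 + 2)).comp
    (MonoidHom.pi fun i => (wt (i.1 + 2)).subtype.comp (Pi.evalMonoidHom _ i))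

theorem mdlHom_injective (k : ℕ) : Function.Injective (mdlHom k) := by
  intro v w h
  funext i
  exact Subtype.ext (congrFun (Perm.sigmaCongrRightHom_injective h) i)

/-- the sign of the model -/
noncomputable def mdlSign (k : ℕ) : Mdl k →* ℤˣ := totalSign fun i : Bits k => wsign (i.1 + 2)

theorem sign_mdlHom (k : ℕ) (w : Mdl k) : Perm.sign (mdlHom k w) = mdlSign k w := by
  rw [mdlSign, totalSign_apply]
  exact sign_sigmaCongrRightHom _

theorem sum_bits (k : ℕ) : ∑ i ∈ k.bitIndices.toFinset, 2 ^ i = k := by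
  rw [List.sum_toFinset _ Nat.bitIndices_nodup, Nat.sum_map_two_pow_bitIndices]

theorem padicValNat_factorial_add_length (k : ℕ) :
    padicValNat 2 k.factorial + k.bitIndices.length = k := by
  haveI : Fact (Nat.Prime 2) := ⟨Nat.prime_two⟩
  induction k using Nat.strong_induction_on with
  | _ k ih =>
    rcases Nat.eq_zero_or_pos k with rfl | hk
    · simp
    obtain ⟨m, rfl | rfl⟩ := Nat.even_or_odd' k
    · rw [padicValNat_factorial_mul, Nat.bitIndices_two_mul, List.length_map]
      have := ih m (by omega)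
      omega
    · rw [padicValNat_factorial_mul_add m (by norm_num), padicValNat_factorial_mul,
        Nat.bitIndices_two_mul_add_one, List.length_cons, List.length_map]
      have := ih m (by omega)
      omega

theorem card_block (k : ℕ) : Fintype.card (Block k) = 4 * k := by
  rw [Fintype.card_sigma, Finset.univ_eq_attach]
  simp only [card_pts]
  rw [Finset.sum_attach _ (fun i => 2 ^ (i + 2))]
  simp only [pow_add]
  rw [← Finset.sum_mul, sum_bits]
  ring

theorem card_mdl (k : ℕ) :
    ∃ e, Nat.card (Mdl k) = 2 ^ e ∧ e + k.bitIndices.length = 4 * k := by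
  refine ⟨∑ i : Bits k, (2 ^ (i.1 + 2) - 1), ?_, ?_⟩
  · rw [Nat.card_pi, Finset.prod_congr rfl fun i _ => card_wt (i.1 + 2), Finset.prod_pow_eq_pow_sum]
  · have hlen : k.bitIndices.length = ∑ _i : Bits k, 1 := by
      rw [Finset.sum_const, smul_eq_mul, mul_one, Finset.card_univ, Fintype.card_coe,
        List.toFinset_card_of_nodup Nat.bitIndices_nodup]
    rw [hlen, ← Finset.sum_add_distrib]
    have h := card_block k
    rw [Fintype.card_sigma] at h
    refine Eq.trans (Finset.sum_congr rfl fun i _ => ?_) h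
    rw [card_pts, Nat.sub_add_cancel Nat.one_le_two_pow]

theorem padicValNat_alternating (n : ℕ) (hn : 2 ≤ n) :
    padicValNat 2 (Nat.card (alternatingGroup (Fin n))) + 1 + (n / 4).bitIndices.length =
      4 * (n / 4) + if n % 4 < 2 then 0 else 1 := by
  haveI : Fact (Nat.Prime 2) := ⟨Nat.prime_two⟩
  haveI : Nontrivial (Fin n) := Fin.nontrivial_iff_two_le.2 hn
  have hcard : 2 * Nat.card (alternatingGroup (Fin n)) = n.factorial := by
    rw [two_mul_nat_card_alternatingGroup, Nat.card_perm, Nat.card_fin]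
  have h1 : padicValNat 2 (Nat.card (alternatingGroup (Fin n))) + 1 =
      padicValNat 2 n.factorial := by
    rw [← hcard, padicValNat.mul (by norm_num) Nat.card_pos.ne', padicValNat_self]
    omega
  rw [h1]
  have h2 : ∀ m, padicValNat 2 m.factorial = m / 2 + padicValNat 2 (m / 2).factorial := by
    intro m
    obtain ⟨l, rfl | rfl⟩ := Nat.even_or_odd' m
    · rw [padicValNat_factorial_mul, Nat.mul_div_cancel_left l (by norm_num), add_comm]
    · rw [padicValNat_factorial_mul_add l (by norm_num), padicValNat_factorial_mul,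
        show (2 * l + 1) / 2 = l by omega, add_comm]
  have h3 := padicValNat_factorial_add_length (n / 4)
  rw [h2 n, h2 (n / 2), show n / 2 / 2 = n / 4 by omega]
  split_ifs <;> omega

theorem nonempty_mulEquiv_sylow {n : ℕ} {M : Type*} [Group M] (f : M →* Perm (Fin n))
    (hf : Function.Injective f) (heven : ∀ x, Perm.sign (f x) = 1)
    (hcard : Nat.card M = 2 ^ padicValNat 2 (Nat.card (alternatingGroup (Fin n))))
    (P : Sylow 2 (alternatingGroup (Fin n))) :
    Nonempty (M ≃* (P : Subgroup (alternatingGroup (Fin n)))) := by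
  haveI : Fact (Nat.Prime 2) := ⟨Nat.prime_two⟩
  let f' : M →* alternatingGroup (Fin n) := f.codRestrict _ fun x => Perm.mem_alternatingGroup.2 (heven x)
  have hf' : Function.Injective f' := fun x y h => hf (congrArg Subtype.val h)
  let e := MonoidHom.ofInjective hf'
  let Q : Sylow 2 (alternatingGroup (Fin n)) := Sylow.ofCard f'.range (by
    rw [← Nat.card_congr e.toEquiv, hcard, Nat.factorization_def _ Nat.prime_two])
  exact ⟨e.trans (Q.equiv P)⟩

/-- an equivalence with the standard point set -/
noncomputable def pointsEquiv (n : ℕ) : Fin (n % 4) ⊕ Block (n / 4) ≃ Fin n :=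
  Fintype.equivFinOfCardEq (by
    rw [Fintype.card_sum, Fintype.card_fin, card_block]; omega)

theorem sylow_iso_ker (n : ℕ) (hn : 4 ≤ n) (hj : n % 4 < 2)
    (P : Sylow 2 (alternatingGroup (Fin n))) :
    Nonempty ((mdlSign (n / 4)).ker ≃* (P : Subgroup (alternatingGroup (Fin n)))) := by
  classical
  haveI : Fact (Nat.Prime 2) := ⟨Nat.prime_two⟩
  let f : (mdlSign (n / 4)).ker →* Perm (Fin n) :=
    (pointsEquiv n).permCongrHom.toMonoidHom.comp
      ((Perm.sumCongrHom (Fin (n % 4)) (Block (n / 4))).comp
        ((1 : (mdlSign (n / 4)).ker →* Perm (Fin (n % 4))).prod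
          ((mdlHom (n / 4)).comp (mdlSign (n / 4)).ker.subtype)))
  have hf : Function.Injective f := by
    refine (pointsEquiv n).permCongrHom.injective.comp (Perm.sumCongrHom_injective.comp ?_)
    intro x y h
    exact Subtype.ext (mdlHom_injective _ (congrArg Prod.snd h))
  refine nonempty_mulEquiv_sylow f hf (fun x => ?_) ?_ P
  · change Perm.sign ((pointsEquiv n).permCongr
      (Perm.sumCongr (1 : Perm (Fin (n % 4))) (mdlHom (n / 4) x.1))) = 1
    rw [Perm.sign_permCongr, Perm.sign_sumCongr, map_one, one_mul, sign_mdlHom]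
    exact x.2
  · obtain ⟨e, he, hek⟩ := card_mdl (n / 4)
    have hv := padicValNat_alternating n (by omega)
    rw [if_pos hj] at hv
    haveI : Nonempty (Bits (n / 4)) := by
      obtain ⟨b, hb⟩ : (n / 4).bitIndices.toFinset.Nonempty := by
        rw [Finset.nonempty_iff_ne_empty]
        intro h
        have := sum_bits (n / 4)
        rw [h, Finset.sum_empty] at this
        omega
      exact ⟨⟨b, hb⟩⟩
    have hsurj : Function.Surjective (mdlSign (n / 4)) := by
      intro u
      obtain ⟨i⟩ := ‹Nonempty (Bits (n / 4))›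
      obtain ⟨x, hx⟩ := wsign_surjective (i.1 + 1) u
      refine ⟨Pi.mulSingle i x, ?_⟩
      rw [mdlSign, totalSign_mulSingle]
      exact hx
    have h := card_ker_mul_two (mdlSign (n / 4)) hsurj
    rw [he, show e = padicValNat 2 (Nat.card (alternatingGroup (Fin n))) + 1 by omega,
      pow_succ] at h
    exact Nat.eq_of_mul_eq_mul_right (by norm_num) h

theorem sylow_iso_mdl (n : ℕ) (hn : 4 ≤ n) (hj : ¬ n % 4 < 2)
    (P : Sylow 2 (alternatingGroup (Fin n))) :
    Nonempty (Mdl (n / 4) ≃* (P : Subgroup (alternatingGroup (Fin n)))) := by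
  classical
  let a : Fin (n % 4) := ⟨0, by omega⟩
  let b : Fin (n % 4) := ⟨1, by omega⟩
  have hab : a ≠ b := by simp [a, b, Fin.ext_iff]
  let t : ℤˣ →* Perm (Fin (n % 4)) := MonoidHom.mk' (fun u => if u = 1 then 1 else Equiv.swap a b) (by
    intro u v
    rcases Int.units_eq_one_or u with rfl | rfl <;> rcases Int.units_eq_one_or v with rfl | rfl <;>
      simp)
  have ht : ∀ u, Perm.sign (t u) = u := by
    intro u
    rcases Int.units_eq_one_or u with rfl | rfl
    · simp [t]
    · simp [t, Perm.sign_swap hab]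
  let f : Mdl (n / 4) →* Perm (Fin n) :=
    (pointsEquiv n).permCongrHom.toMonoidHom.comp
      ((Perm.sumCongrHom (Fin (n % 4)) (Block (n / 4))).comp
        ((t.comp (mdlSign (n / 4))).prod (mdlHom (n / 4))))
  have hf : Function.Injective f := by
    refine (pointsEquiv n).permCongrHom.injective.comp (Perm.sumCongrHom_injective.comp ?_)
    intro x y h
    exact mdlHom_injective _ (congrArg Prod.snd h)
  refine nonempty_mulEquiv_sylow f hf (fun x => ?_) ?_ P
  · change Perm.sign ((pointsEquiv n).permCongr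
      (Perm.sumCongr (t (mdlSign (n / 4) x)) (mdlHom (n / 4) x))) = 1
    rw [Perm.sign_permCongr, Perm.sign_sumCongr, ht, sign_mdlHom]
    exact Int.units_mul_self _
  · obtain ⟨e, he, hek⟩ := card_mdl (n / 4)
    have hv := padicValNat_alternating n (by omega)
    rw [if_neg hj] at hv
    rw [he, show e = padicValNat 2 (Nat.card (alternatingGroup (Fin n))) by omega]

theorem mulEquiv_ker_unique {ι : Type*} [Fintype ι] [DecidableEq ι] [Unique ι] {W : ι → Type*}
    [∀ i, Group (W i)] (s : ∀ i, W i →* ℤˣ) :
    Nonempty ((totalSign s).ker ≃* (s default).ker) := by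
  refine ⟨{ toFun := fun x => ⟨x.1 default, ?_⟩, invFun := fun y => ⟨Pi.mulSingle default y.1, ?_⟩,
            left_inv := ?_, right_inv := ?_, map_mul' := ?_ }⟩
  · have := MonoidHom.mem_ker.1 x.2
    rw [totalSign_apply, Fintype.prod_unique] at this
    exact this
  · rw [MonoidHom.mem_ker, totalSign_mulSingle]
    exact y.2
  · intro x
    apply Subtype.ext
    funext i
    rw [Subsingleton.elim i default]
    simp
  · intro y
    apply Subtype.ext
    simp
  · intro x y
    rfl

theorem decomp_iff (n : ℕ) (hn : 4 ≤ n) (P : Sylow 2 (alternatingGroup (Fin n))) :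
    Decomp (P : Subgroup (alternatingGroup (Fin n))) ↔
      (n = 4 ∨ n = 5 ∨ ((n % 4 = 2 ∨ n % 4 = 3) ∧ ∀ r : ℕ, 4 * (n / 4) ≠ 2 ^ r)) := by
  classical
  set k := n / 4 with hk
  by_cases hsub : Subsingleton (Bits k)
  · -- one binary digit
    obtain ⟨m, hm⟩ : ∃ m, k.bitIndices.toFinset = {m} := by
      have hne : k.bitIndices.toFinset.Nonempty := by
        rw [Finset.nonempty_iff_ne_empty]
        intro h
        have := sum_bits k
        rw [h, Finset.sum_empty] at this
        omega
      obtain ⟨m, hm⟩ := hne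
      exact ⟨m, Finset.eq_singleton_iff_unique_mem.2 ⟨hm, fun x hx =>
        congrArg Subtype.val (hsub.elim (⟨x, hx⟩ : Bits k) ⟨m, hm⟩)⟩⟩
    have hkm : k = 2 ^ m := by
      have := sum_bits k
      rw [hm, Finset.sum_singleton] at this
      exact this.symm
    have hnot : ¬ ((n % 4 = 2 ∨ n % 4 = 3) ∧ ∀ r : ℕ, 4 * k ≠ 2 ^ r) :=
      fun h => h.2 (m + 2) (by rw [hkm, pow_add]; ring)
    let u : Unique (Bits k) :=
      { default := ⟨m, by rw [hm]; exact Finset.mem_singleton_self m⟩
        uniq := fun a => hsub.elim a _ }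
    by_cases hj : n % 4 < 2
    · obtain ⟨e⟩ := sylow_iso_ker n hn hj P
      obtain ⟨e'⟩ := mulEquiv_ker_unique (fun i : Bits k => wsign (i.1 + 2))
      rw [← decomp_congr e]
      refine (decomp_congr (G := (mdlSign k).ker) e').trans ?_
      change Decomp (wsign (m + 2)).ker ↔ _
      rcases Nat.eq_zero_or_pos m with rfl | hm0
      · have : n = 4 ∨ n = 5 := by
          rw [pow_zero] at hkm; omega
        exact iff_of_true decomp_ker_wsign_two (this.imp_right Or.inl)
      · obtain ⟨l, rfl⟩ : ∃ l, m = l + 1 := ⟨m - 1, by omega⟩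
        refine iff_of_false (not_decomp_ker_wsign l) ?_
        rintro (h | h | h)
        · have : 2 ≤ k := by rw [hkm, pow_succ]; have := Nat.one_le_two_pow (n := l); omega
          omega
        · have : 2 ≤ k := by rw [hkm, pow_succ]; have := Nat.one_le_two_pow (n := l); omega
          omega
        · exact hnot h
    · obtain ⟨e⟩ := sylow_iso_mdl n hn hj P
      rw [← decomp_congr e]
      refine (decomp_congr (G := Mdl k) (MulEquiv.piUnique fun i : Bits k => wt (i.1 + 2))).trans ?_
      refine iff_of_false (not_decomp_of_tight (tight_wt _)) ?_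
      rintro (h | h | h)
      · omega
      · omega
      · exact hnot h
  · -- several binary digits
    haveI : Nontrivial (Bits k) := not_subsingleton_iff_nontrivial.1 hsub
    have hpow : ∀ r : ℕ, 4 * k ≠ 2 ^ r := by
      intro r hr
      apply hsub
      match r, hr with
      | 0, hr => omega
      | 1, hr => norm_num at hr; omega
      | r + 2, hr =>
        have hkr : k = 2 ^ r := by rw [pow_add] at hr; omega
        constructor
        rintro ⟨a, ha⟩ ⟨b, hb⟩
        rw [hkr, Nat.bitIndices_two_pow] at ha hb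
        simp at ha hb
        exact Subtype.ext (ha.trans hb.symm)
    have hn8 : n ≠ 4 ∧ n ≠ 5 := by
      constructor <;> intro h <;> exact hpow 2 (by omega)
    by_cases hj : n % 4 < 2
    · obtain ⟨e⟩ := sylow_iso_ker n hn hj P
      rw [← decomp_congr e]
      refine iff_of_false (not_decomp_ker _ (fun i => tight_wt i.1) (fun i => center_wt_le i.1)
        (fun i => wsign_surjective (i.1 + 1)) inferInstance) ?_
      rintro (h | h | ⟨h, -⟩)
      · exact hn8.1 h
      · exact hn8.2 h
      · omega
    · obtain ⟨e⟩ := sylow_iso_mdl n hn hj P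
      obtain ⟨i, j, hij⟩ := exists_pair_ne (Bits k)
      haveI : ∀ l : Bits k, Nontrivial (wt (l.1 + 2)) := fun l => instNontrivialWt (l.1 + 1)
      exact iff_of_true ((decomp_pi (fun l : Bits k => (wt (l.1 + 2))) hij).map e)
        (Or.inr (Or.inr ⟨by omega, hpow⟩))

end Cfsg.Agent.Perm.AltSylowTwo
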