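import Cfsg.Agent.Lib.Perm.AltSylowTwo.Product

/-!
The model of a Sylow 2-subgroup of the alternating group.
-/

set_option autoImplicit false

namespace Cfsg.Agent.Perm.AltSylowTwo

open Equiv

/-- a set with `2 ^ r` points -/
def Pts : ℕ → Type
  | 0 => Unit
  | r + 1 => Pts r ⊕ Pts r

instance instFintypePts : ∀ r, Fintype (Pts r)
  | 0 => inferInstanceAs (Fintype Unit)
  | r + 1 =>
    haveI := instFintypePts r
    inferInstanceAs (Fintype (Pts r ⊕ Pts r))

instance instDecidableEqPts : ∀ r, DecidableEq (Pts r)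
  | 0 => inferInstanceAs (DecidableEq Unit)
  | r + 1 =>
    haveI := instDecidableEqPts r
    inferInstanceAs (DecidableEq (Pts r ⊕ Pts r))

instance instNonemptyPts : ∀ r, Nonempty (Pts r)
  | 0 => inferInstanceAs (Nonempty Unit)
  | r + 1 =>
    haveI := instNonemptyPts r
    inferInstanceAs (Nonempty (Pts r ⊕ Pts r))

theorem card_pts : ∀ r, Fintype.card (Pts r) = 2 ^ r
  | 0 => rfl
  | r + 1 => by
    calc Fintype.card (Pts (r + 1)) = Fintype.card (Pts r ⊕ Pts r) :=
          Fintype.card_congr (Equiv.refl _)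
      _ = 2 ^ (r + 1) := by rw [Fintype.card_sum, card_pts r, pow_succ, mul_two]

/-- the tower -/
def wt : ∀ r, Subgroup (Perm (Pts r))
  | 0 => ⊥
  | r + 1 => next (wt r)

theorem card_wt : ∀ r, Nat.card (wt r) = 2 ^ (2 ^ r - 1)
  | 0 => by simp [wt]
  | r + 1 => by
    calc Nat.card (wt (r + 1)) = Nat.card (next (wt r)) := rfl
      _ = 2 * (Nat.card (wt r) * Nat.card (wt r)) := card_next
      _ = 2 ^ (2 ^ (r + 1) - 1) := by
        rw [card_wt r, ← pow_add, ← pow_succ']
        congr 1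
        have : 1 ≤ 2 ^ r := Nat.one_le_two_pow
        rw [pow_succ]; omega

/-- the swap of the two halves at level `r + 1` -/
def tau (r : ℕ) : wt (r + 1) := ⟨swapHalves (Pts r), swap_mem⟩

theorem swapHalves_ne_one (r : ℕ) : swapHalves (Pts r) ≠ 1 := by
  intro h
  refine sumCongr_ne_mul_swap (1 : Perm (Pts r)) 1 1 1 ?_
  rw [one_sumCongr_one, one_mul, h]

theorem wt_ne_bot (r : ℕ) : ∃ g ∈ wt (r + 1), g ≠ 1 :=
  ⟨_, swap_mem, swapHalves_ne_one r⟩

theorem smallCentre_wt : ∀ r, SmallCentre (wt (r + 1))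
  | 0 => by
    have hone : ∀ x ∈ wt 1, x = 1 ∨ x = swapHalves (Pts 0) := by
      rintro x ⟨a, ha, b, hb, rfl | rfl⟩ <;>
        (change a ∈ (⊥ : Subgroup _) at ha; change b ∈ (⊥ : Subgroup _) at hb
         rw [Subgroup.mem_bot] at ha hb; subst ha hb)
      · exact Or.inl one_sumCongr_one
      · exact Or.inr (by rw [one_sumCongr_one, one_mul])
    intro x hx _
    refine ⟨?_, fun y hy _ => ?_⟩
    · rcases hone x hx with rfl | rfl
      · exact one_mul _
      · exact swapHalves_mul_self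
    · rcases hone x hx with rfl | rfl
      · exact Or.inl rfl
      · rcases hone y hy with rfl | rfl
        · exact Or.inr (Or.inl rfl)
        · exact Or.inr (Or.inr rfl)
  | r + 1 => smallCentre_next (wt_ne_bot r) (smallCentre_wt r)

theorem tight_wt (r : ℕ) : Tight (wt (r + 2)) := tight_next (wt_ne_bot r) (smallCentre_wt r)

theorem center_wt_le (r : ℕ) : Subgroup.center (wt (r + 2)) ≤ commutator (wt (r + 2)) :=
  fun _ hx => central_mem_commutator (wt_ne_bot r) (smallCentre_wt r) hx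

theorem sign_swapHalves (r : ℕ) : Perm.sign (swapHalves (Pts (r + 1))) = 1 := by
  have h : (Equiv.sumSumSumComm (Pts r) (Pts r) (Pts r) (Pts r)).permCongr
      (Perm.sumCongr (swapHalves (Pts r)) (swapHalves (Pts r))) =
      swapHalves (Pts r ⊕ Pts r) := by
    ext x
    rcases x with (x | x) | (x | x) <;> rfl
  have h2 : Perm.sign (swapHalves (Pts r ⊕ Pts r)) = 1 := by
    rw [← h, Perm.sign_permCongr, Perm.sign_sumCongr, Int.units_mul_self]
  exact h2

theorem exists_odd : ∀ r, ∃ o ∈ wt (r + 1), Perm.sign o = -1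
  | 0 => ⟨swapHalves (Pts 0), swap_mem, by decide⟩
  | r + 1 => by
    obtain ⟨o, ho, hs⟩ := exists_odd r
    refine ⟨Perm.sumCongr o 1, base_mem ho (one_mem _), ?_⟩
    have h : Perm.sign (Perm.sumCongr o (1 : Perm (Pts (r + 1)))) = -1 := by
      rw [Perm.sign_sumCongr, hs, map_one, mul_one]
    exact h

/-- the sign on the tower -/
def wsign (r : ℕ) : wt r →* ℤˣ := Perm.sign.comp (wt r).subtype

theorem wsign_surjective (r : ℕ) : Function.Surjective (wsign (r + 1)) := by
  intro u
  rcases Int.units_eq_one_or u with h | h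
  · exact ⟨1, by rw [map_one, h]⟩
  · obtain ⟨o, ho, hs⟩ := exists_odd r
    exact ⟨⟨o, ho⟩, by rw [h]; exact hs⟩

instance instNontrivialWt (r : ℕ) : Nontrivial (wt (r + 1)) :=
  ⟨⟨tau r, 1, fun h => swapHalves_ne_one r (congrArg Subtype.val h)⟩⟩

theorem isPGroup_wt (r : ℕ) : IsPGroup 2 (wt r) := IsPGroup.of_card (card_wt r)

/-- commuting with the even elements of `H wr C₂` is commuting with all of them -/
theorem central_of_commute_even {α : Type*} [Fintype α] [DecidableEq α] [Nonempty α]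
    {H : Subgroup (Perm α)} (hτ : Perm.sign (swapHalves α) = 1)
    {g₀ o : Perm α} (hg₀ : g₀ ∈ H) (hg₀1 : g₀ ≠ 1) (hg₀s : Perm.sign g₀ = 1)
    (ho : o ∈ H) (hos : Perm.sign o = -1) {x : Perm (α ⊕ α)} (hx : x ∈ next H)
    (hk : ∀ k ∈ next H, Perm.sign k = 1 → x * k = k * x) : ∀ k ∈ next H, x * k = k * x := by
  obtain ⟨a, ha, b, hb, rfl⟩ := mem_base_of_commute hx hg₀1
    (hk _ (base_mem hg₀ H.one_mem) (by rw [Perm.sign_sumCongr, hg₀s, map_one, mul_one]))
  have hab : a = b := eq_of_commute_swap (hk _ swap_mem hτ)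
  subst hab
  have hpo : a * o = o * a := by
    have := hk _ (base_mem ho ho) (by rw [Perm.sign_sumCongr, Int.units_mul_self])
    rw [Perm.sumCongr_mul, Perm.sumCongr_mul] at this
    exact (sumCongr_inj this).1
  have heven : ∀ g ∈ H, Perm.sign g = 1 → a * g = g * a := fun g hg hgs =>
    commute_of_commute_left
      (hk _ (base_mem hg H.one_mem) (by rw [Perm.sign_sumCongr, hgs, map_one, mul_one]))
  have hall : ∀ g ∈ H, a * g = g * a := by
    intro g hg
    rcases Int.units_eq_one_or (Perm.sign g) with h | h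
    · exact heven g hg h
    · have h1 := heven (g * o) (mul_mem hg ho) (by rw [map_mul, h, hos]; rfl)
      have h2 : a * g * o = g * a * o := by rw [mul_assoc, h1, mul_assoc, ← hpo, ← mul_assoc]
      exact mul_right_cancel h2
  rintro k ⟨c, hc, d, hd, rfl | rfl⟩
  · simp only [Perm.sumCongr_mul]
    rw [hall c hc, hall d hd]
  · rw [mul_assoc, swapHalves_mul_sumCongr, ← mul_assoc, ← mul_assoc, Perm.sumCongr_mul,
      Perm.sumCongr_mul, hall c hc, hall d hd]

/-- the kernel of the sign at level at least 3 does not decompose -/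
theorem not_decomp_ker_wsign (r : ℕ) : ¬ Decomp (wsign (r + 3)).ker := by
  refine not_decomp_of_centre ((isPGroup_wt _).to_subgroup _) ?_
  have hcent : ∀ x : (wsign (r + 3)).ker, x ∈ Subgroup.center _ →
      ((x : wt (r + 3)) : Perm (Pts (r + 3))) ∈ wt (r + 3) ∧
      ∀ k ∈ wt (r + 3), ((x : wt (r + 3)) : Perm (Pts (r + 3))) * k = k * (x : wt (r + 3)).1 := by
    intro x hx
    refine ⟨(x : wt (r + 3)).2, ?_⟩
    obtain ⟨o, ho, hos⟩ := exists_odd (r + 1)
    exact central_of_commute_even (α := Pts (r + 2)) (H := wt (r + 2)) (g₀ := swapHalves (Pts (r + 1)))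
      (sign_swapHalves (r + 1)) swap_mem (swapHalves_ne_one (r + 1)) (sign_swapHalves r) ho hos
      (x : wt (r + 3)).2 fun k hk hs =>
        (congrArg (fun t : (wsign (r + 3)).ker => t.1.1)
          (Subgroup.mem_center_iff.1 hx ⟨⟨k, hk⟩, hs⟩)).symm
  intro x hx y hy
  obtain ⟨hxm, hxc⟩ := hcent x hx
  obtain ⟨hym, hyc⟩ := hcent y hy
  rcases (smallCentre_wt (r + 2) _ hxm hxc).2 _ hym hyc with h | h | h
  · exact Or.inl (Subtype.ext (Subtype.ext h))
  · exact Or.inr (Or.inl (Subtype.ext (Subtype.ext h)))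
  · exact Or.inr (Or.inr (Subtype.ext (Subtype.ext h)))

theorem card_ker_mul_two {G : Type*} [Group G] (f : G →* ℤˣ) (hf : Function.Surjective f) :
    Nat.card f.ker * 2 = Nat.card G := by
  rw [← f.ker.card_mul_index, Subgroup.index_ker, MonoidHom.range_eq_top.2 hf,
    Subgroup.card_top, Nat.card_eq_fintype_card (α := ℤˣ), Fintype.card_units_int]

/-- in degree four the kernel is a four-group -/
theorem decomp_ker_wsign_two : Decomp (wsign 2).ker := by
  have hcard : Nat.card (wsign 2).ker = 4 := by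
    have h := card_ker_mul_two (wsign 2) (wsign_surjective 1)
    rw [card_wt] at h
    have h2 : (2 : ℕ) ^ (2 ^ 2 - 1) = 8 := by norm_num
    omega
  obtain ⟨o, ho, hos⟩ := exists_odd 0
  have ho2 : o * o = 1 := by
    obtain ⟨a, ha, b, hb, rfl | rfl⟩ := ho <;>
      (change a ∈ (⊥ : Subgroup _) at ha; change b ∈ (⊥ : Subgroup _) at hb
       rw [Subgroup.mem_bot] at ha hb; subst ha hb)
    · rw [one_sumCongr_one]; exact one_mul 1
    · rw [one_sumCongr_one, one_mul]; exact swapHalves_mul_self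
  have hxs : Perm.sign (swapHalves (Pts 1)) = 1 := sign_swapHalves 0
  have hys : Perm.sign (Perm.sumCongr o o) = 1 := by rw [Perm.sign_sumCongr, Int.units_mul_self]
  let x : (wsign 2).ker := ⟨⟨swapHalves (Pts 1), swap_mem⟩, by
    exact hxs⟩
  let y : (wsign 2).ker := ⟨⟨Perm.sumCongr o o, base_mem ho ho⟩, by
    exact hys⟩
  have hx1 : x ≠ 1 := fun h => swapHalves_ne_one 1 (congrArg (fun t : (wsign 2).ker => t.1.1) h)
  have ho1 : o ≠ 1 := by
    intro h
    rw [h, map_one] at hos
    exact absurd hos (by decide)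
  have hy1 : y ≠ 1 := fun h => ho1 (sumCongr_inj (α := Pts 1) (b := o) (d := 1)
    ((congrArg (fun t : (wsign 2).ker => t.1.1) h).trans one_sumCongr_one.symm)).1
  have hxy : x ≠ y := fun h => sumCongr_ne_mul_swap (α := Pts 1) o o 1 1 (by
    rw [one_sumCongr_one, one_mul]
    exact (congrArg (fun t : (wsign 2).ker => t.1.1) h).symm)
  have hx2 : x ^ 2 = 1 := by
    rw [pow_two]; exact Subtype.ext (Subtype.ext swapHalves_mul_self)
  have hy2 : y ^ 2 = 1 := by
    rw [pow_two]
    refine Subtype.ext (Subtype.ext ?_)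
    change Perm.sumCongr o o * Perm.sumCongr o o = 1
    rw [Perm.sumCongr_mul, ho2]
    exact one_sumCongr_one
  have hpow : ∀ u : (wsign 2).ker, u ^ 2 = 1 → ∀ v ∈ Subgroup.zpowers u, v = 1 ∨ v = u := by
    rintro u hu _ ⟨k, rfl⟩
    obtain ⟨m, rfl | rfl⟩ := Int.even_or_odd' k
    · left
      change u ^ (2 * m) = 1
      rw [zpow_mul, zpow_two, ← pow_two, hu, one_zpow]
    · right
      change u ^ (2 * m + 1) = u
      rw [zpow_add, zpow_mul, zpow_two, ← pow_two, hu, one_zpow, one_mul, zpow_one]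
  haveI : Fact (Nat.Prime 2) := ⟨Nat.prime_two⟩
  have hcomm : ∀ a b : (wsign 2).ker, a * b = b * a :=
    (IsPGroup.commutative_of_card_eq_prime_sq (p := 2) (by rw [hcard]; norm_num)) 
  refine ⟨Subgroup.zpowers x, Subgroup.zpowers y, ?_, ?_, fun a _ b _ => hcomm a b, ?_, ?_⟩
  · rwa [Ne, Subgroup.zpowers_eq_bot]
  · rwa [Ne, Subgroup.zpowers_eq_bot]
  · rw [eq_bot_iff]
    rintro v ⟨hv, hv'⟩
    rw [Subgroup.mem_bot]
    rcases hpow x hx2 v hv with h | h
    · exact h
    · rcases hpow y hy2 v hv' with h' | h'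
      · exact h'
      · exact absurd (h.symm.trans h') hxy
  · refine Subgroup.eq_top_of_card_eq _ ?_
    have hd := Subgroup.card_subgroup_dvd_card (Subgroup.zpowers x ⊔ Subgroup.zpowers y)
    rw [hcard] at hd ⊢
    have hle : ({1, x, y} : Set (wsign 2).ker).ncard ≤
        Nat.card (Subgroup.zpowers x ⊔ Subgroup.zpowers y : Subgroup (wsign 2).ker) := by
      refine le_of_le_of_eq (Set.ncard_le_ncard ?_ (Set.toFinite
        (((Subgroup.zpowers x ⊔ Subgroup.zpowers y : Subgroup (wsign 2).ker)) : Set (wsign 2).ker)))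
        (Nat.card_coe_set_eq _).symm
      rintro v (rfl | rfl | rfl)
      · exact one_mem _
      · exact Subgroup.mem_sup_left (Subgroup.mem_zpowers x)
      · exact Subgroup.mem_sup_right (Subgroup.mem_zpowers y)
    rw [Set.ncard_eq_three.2 ⟨1, x, y, Ne.symm hx1, Ne.symm hy1, hxy, rfl⟩] at hle
    have h4 := Nat.le_of_dvd (by norm_num) hd
    obtain ⟨c, hc⟩ := hd
    interval_cases hc' : Nat.card (Subgroup.zpowers x ⊔ Subgroup.zpowers y : Subgroup (wsign 2).ker) <;>
      omega

end Cfsg.Agent.Perm.AltSylowTwo
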