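import Cfsg.Agent.Lib.Perm.AltSylowTwo.Tower

/-!
Direct decompositions of a product of tight groups and of the kernel of a sign on it.
-/

set_option autoImplicit false

namespace Cfsg.Agent.Perm.AltSylowTwo

open scoped commutatorElement

/-- `G` is the direct product of two nontrivial subgroups -/
def Decomp (G : Type*) [Group G] : Prop :=
  ∃ A B : Subgroup G, A ≠ ⊥ ∧ B ≠ ⊥ ∧ (∀ a ∈ A, ∀ b ∈ B, a * b = b * a) ∧ A ⊓ B = ⊥ ∧ A ⊔ B = ⊤

theorem Decomp.map {G G' : Type*} [Group G] [Group G'] (e : G ≃* G') (h : Decomp G) :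
    Decomp G' := by
  obtain ⟨A, B, hA, hB, hc, hi, hs⟩ := h
  refine ⟨A.map e.toMonoidHom, B.map e.toMonoidHom, ?_, ?_, ?_, ?_, ?_⟩
  · exact fun h => hA ((Subgroup.map_eq_bot_iff_of_injective _ e.injective).1 h)
  · exact fun h => hB ((Subgroup.map_eq_bot_iff_of_injective _ e.injective).1 h)
  · rintro _ ⟨a, ha, rfl⟩ _ ⟨b, hb, rfl⟩
    rw [← map_mul, ← map_mul, hc a ha b hb]
  · rw [← Subgroup.map_inf _ _ _ e.injective, hi, Subgroup.map_bot]
  · rw [← Subgroup.map_sup, hs, Subgroup.map_top_of_surjective _ e.surjective]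

theorem decomp_congr {G G' : Type*} [Group G] [Group G'] (e : G ≃* G') : Decomp G ↔ Decomp G' :=
  ⟨Decomp.map e, Decomp.map e.symm⟩

theorem decomp_subgroup_iff {G : Type*} [Group G] (P : Subgroup G) :
    (∃ S₁ S₂ : Subgroup G, S₁ ≠ ⊥ ∧ S₂ ≠ ⊥ ∧
      (S₁ ≤ P ∧ S₂ ≤ P ∧ (∀ a ∈ S₁, ∀ b ∈ S₂, a * b = b * a) ∧ S₁ ⊓ S₂ = ⊥ ∧ S₁ ⊔ S₂ = P)) ↔
      Decomp P := by
  constructor
  · rintro ⟨S, T, hS, hT, hSP, hTP, hc, hi, hs⟩
    refine ⟨S.subgroupOf P, T.subgroupOf P, ?_, ?_, ?_, ?_, ?_⟩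
    · intro h
      exact hS (le_bot_iff.1 fun x hx => by
        have : (⟨x, hSP hx⟩ : P) ∈ S.subgroupOf P := hx
        rw [h, Subgroup.mem_bot] at this
        exact congrArg Subtype.val this)
    · intro h
      exact hT (le_bot_iff.1 fun x hx => by
        have : (⟨x, hTP hx⟩ : P) ∈ T.subgroupOf P := hx
        rw [h, Subgroup.mem_bot] at this
        exact congrArg Subtype.val this)
    · intro a ha b hb
      exact Subtype.ext (hc a ha b hb)
    · rw [eq_bot_iff]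
      intro x hx
      have : (x : G) ∈ S ⊓ T := hx
      rw [hi, Subgroup.mem_bot] at this
      rw [Subgroup.mem_bot]
      exact Subtype.ext this
    · rw [← Subgroup.subgroupOf_sup hSP hTP, hs, Subgroup.subgroupOf_self]
  · rintro ⟨A, B, hA, hB, hc, hi, hs⟩
    refine ⟨A.map P.subtype, B.map P.subtype, ?_, ?_, Subgroup.map_subtype_le A,
      Subgroup.map_subtype_le B, ?_, ?_, ?_⟩
    · exact fun h => hA ((Subgroup.map_eq_bot_iff_of_injective _ P.subtype_injective).1 h)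
    · exact fun h => hB ((Subgroup.map_eq_bot_iff_of_injective _ P.subtype_injective).1 h)
    · rintro _ ⟨a, ha, rfl⟩ _ ⟨b, hb, rfl⟩
      rw [← map_mul, ← map_mul, hc a ha b hb]
    · rw [← Subgroup.map_inf _ _ _ P.subtype_injective, hi, Subgroup.map_bot]
    · rw [← Subgroup.map_sup, hs, ← MonoidHom.range_eq_map, Subgroup.range_subtype]

theorem not_decomp_of_tight {G : Type*} [Group G] (hT : Tight G) : ¬ Decomp G := by
  rintro ⟨A, B, hA, hB, hc, hi, hs⟩
  rcases hT A B hc hs with ⟨h, -⟩ | ⟨h, -⟩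
  · rw [h, top_inf_eq] at hi; exact hB hi
  · rw [h, inf_top_eq] at hi; exact hA hi

theorem mem_center_of_direct {G : Type*} [Group G] {A B : Subgroup G}
    (hc : ∀ a ∈ A, ∀ b ∈ B, a * b = b * a) (hs : A ⊔ B = ⊤) {x : G} (hx : x ∈ A)
    (hxc : ∀ a ∈ A, a * x = x * a) : x ∈ Subgroup.center G := by
  have hle : A ⊔ B ≤ Subgroup.centralizer {x} := by
    refine sup_le (fun a ha => ?_) (fun b hb => ?_) <;>
      rw [Subgroup.mem_centralizer_singleton_iff]
    · exact hxc a ha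
    · exact (hc x hx b hb).symm
  rw [hs] at hle
  exact Subgroup.mem_center_iff.2 fun g =>
    Subgroup.mem_centralizer_singleton_iff.1 (hle (Subgroup.mem_top g))

theorem not_decomp_of_centre {G : Type*} [Group G] [Finite G] (hG : IsPGroup 2 G)
    (h : ∀ x ∈ Subgroup.center G, ∀ y ∈ Subgroup.center G, x = 1 ∨ y = 1 ∨ x = y) :
    ¬ Decomp G := by
  haveI : Fact (Nat.Prime 2) := ⟨Nat.prime_two⟩
  rintro ⟨A, B, hA, hB, hc, hi, hs⟩
  have key : ∀ (S T : Subgroup G), (∀ a ∈ S, ∀ b ∈ T, a * b = b * a) → S ⊔ T = ⊤ → S ≠ ⊥ →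
      ∃ x ∈ Subgroup.center G, x ∈ S ∧ x ≠ 1 := by
    intro S T hc' hs' hS
    haveI : Nontrivial S := (Subgroup.nontrivial_iff_ne_bot S).2 hS
    haveI := (hG.to_subgroup S).center_nontrivial
    obtain ⟨⟨z, hz⟩, hz1⟩ := exists_ne (1 : Subgroup.center S)
    refine ⟨z, mem_center_of_direct hc' hs' z.2 (fun a ha => ?_), z.2, fun h1 => hz1 ?_⟩
    · exact congrArg Subtype.val (Subgroup.mem_center_iff.1 hz ⟨a, ha⟩)
    · exact Subtype.ext (Subtype.ext h1)
  obtain ⟨x, hx, hxA, hx1⟩ := key A B hc hs hA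
  obtain ⟨y, hy, hyB, hy1⟩ := key B A (fun b hb a ha => (hc a ha b hb).symm)
    (by rw [sup_comm, hs]) hB
  rcases h x hx y hy with h | h | h
  · exact hx1 h
  · exact hy1 h
  · subst h
    have : x ∈ A ⊓ B := ⟨hxA, hyB⟩
    rw [hi, Subgroup.mem_bot] at this
    exact hx1 this

theorem decomp_pi {ι : Type*} [Fintype ι] [DecidableEq ι] (W : ι → Type*) [∀ i, Group (W i)]
    [∀ i, Nontrivial (W i)] {i j : ι} (hij : i ≠ j) : Decomp (∀ k, W k) := by
  refine ⟨(MonoidHom.mulSingle W i).range, (Pi.evalMonoidHom W i).ker, ?_, ?_, ?_, ?_, ?_⟩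
  · intro h
    obtain ⟨x, hx⟩ := exists_ne (1 : W i)
    have : Pi.mulSingle i x ∈ (MonoidHom.mulSingle W i).range := ⟨x, rfl⟩
    rw [h, Subgroup.mem_bot, Pi.mulSingle_eq_one_iff] at this
    exact hx this
  · intro h
    obtain ⟨x, hx⟩ := exists_ne (1 : W j)
    have : Pi.mulSingle j x ∈ (Pi.evalMonoidHom W i).ker := by
      rw [MonoidHom.mem_ker, Pi.evalMonoidHom_apply, Pi.mulSingle_eq_of_ne hij]
    rw [h, Subgroup.mem_bot, Pi.mulSingle_eq_one_iff] at this
    exact hx this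
  · rintro _ ⟨x, rfl⟩ b hb
    rw [MonoidHom.mem_ker, Pi.evalMonoidHom_apply] at hb
    funext k
    rcases eq_or_ne k i with rfl | hk
    · simp [hb]
    · simp [Pi.mulSingle_eq_of_ne hk]
  · rw [eq_bot_iff]
    rintro _ ⟨⟨x, rfl⟩, hx⟩
    replace hx : (Pi.mulSingle i x : ∀ k, W k) i = 1 := hx
    rw [Pi.mulSingle_eq_same] at hx
    rw [Subgroup.mem_bot, hx]
    exact map_one _
  · rw [eq_top_iff]
    intro w _
    have hw : w = Pi.mulSingle i (w i) * ((Pi.mulSingle i (w i))⁻¹ * w) := by group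
    rw [hw]
    refine Subgroup.mul_mem_sup ⟨w i, rfl⟩ ?_
    rw [MonoidHom.mem_ker, Pi.evalMonoidHom_apply]
    simp

variable {ι : Type*} [Fintype ι] [DecidableEq ι] {W : ι → Type*} [∀ i, Group (W i)]

/-- the product of signs -/
noncomputable def totalSign (s : ∀ i, W i →* ℤˣ) : (∀ i, W i) →* ℤˣ :=
  ∏ i, (s i).comp (Pi.evalMonoidHom W i)

theorem totalSign_apply (s : ∀ i, W i →* ℤˣ) (w : ∀ i, W i) :
    totalSign s w = ∏ i, s i (w i) := by
  simp [totalSign]

theorem totalSign_mulSingle (s : ∀ i, W i →* ℤˣ) (i : ι) (x : W i) :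
    totalSign s (Pi.mulSingle i x) = s i x := by
  rw [totalSign_apply, Finset.prod_eq_single i]
  · simp
  · intro j _ hj; simp [Pi.mulSingle_eq_of_ne hj]
  · intro h; exact absurd (Finset.mem_univ i) h

theorem not_decomp_ker (s : ∀ i, W i →* ℤˣ) (hT : ∀ i, Tight (W i))
    (hZ : ∀ i, Subgroup.center (W i) ≤ commutator (W i)) (hs : ∀ i, Function.Surjective (s i))
    (hnt : Nontrivial ι) : ¬ Decomp (totalSign s).ker := by
  classical
  suffices ∀ K, K = (totalSign s).ker → ¬ Decomp K from this _ rfl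
  intro K hK
  rintro ⟨A, B, hA, hB, hc, hi, hsup⟩
  let π : ∀ i, K →* W i := fun i => (Pi.evalMonoidHom W i).comp K.subtype
  have hev : ∀ i, ∀ z ∈ Subgroup.center (W i), s i z = 1 := fun i z hz =>
    MonoidHom.mem_ker.1 (Abelianization.commutator_subset_ker (s i) (hZ i hz))
  -- lifts
  have hlift : ∀ i j, i ≠ j → ∀ (x : W i) (y : W j), s i x = s j y →
      Pi.mulSingle i x * Pi.mulSingle j y ∈ K := by
    intro i j _ x y h
    rw [hK, MonoidHom.mem_ker, map_mul, totalSign_mulSingle, totalSign_mulSingle, h]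
    exact Int.units_mul_self _
  have hother : ∀ i : ι, ∃ j, i ≠ j := fun i => by
    obtain ⟨j, hj⟩ := exists_ne i
    exact ⟨j, hj.symm⟩
  have hπsurj : ∀ i, Function.Surjective (π i) := by
    intro i x
    obtain ⟨j, hj⟩ := hother i
    obtain ⟨y, hy⟩ := hs j (s i x)
    refine ⟨⟨_, hlift i j hj x y hy.symm⟩, ?_⟩
    simp [π, Pi.mulSingle_eq_of_ne hj]
  have hTi : ∀ i, (A.map (π i) = ⊤ ∧ B.map (π i) ≤ Subgroup.center (W i)) ∨
      (B.map (π i) = ⊤ ∧ A.map (π i) ≤ Subgroup.center (W i)) := by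
    intro i
    refine hT i _ _ ?_ ?_
    · rintro _ ⟨a, ha, rfl⟩ _ ⟨b, hb, rfl⟩
      rw [← map_mul, ← map_mul, hc a ha b hb]
    · rw [← Subgroup.map_sup, hsup, Subgroup.map_top_of_surjective _ (hπsurj i)]
  -- a factor all of whose projections are central is trivial
  have key : ∀ S T : Subgroup K, (∀ a ∈ S, ∀ b ∈ T, a * b = b * a) → S ⊔ T = ⊤ → S ⊓ T = ⊥ →
      (∀ i, T.map (π i) ≤ Subgroup.center (W i)) → T = ⊥ := by
    intro S T hc' hs' hi' hTc
    have hTK : T ≤ Subgroup.center K := by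
      intro t ht
      rw [Subgroup.mem_center_iff]
      intro g
      apply Subtype.ext
      funext i
      exact Subgroup.mem_center_iff.1 (hTc i ⟨t, ht, rfl⟩) (π i g)
    haveI : T.Normal := ⟨fun t ht g => by
      rw [Subgroup.mem_center_iff.1 (hTK ht) g, mul_inv_cancel_right]; exact ht⟩
    have hcom : commutator K ≤ S := by
      rw [commutator_def, Subgroup.commutator_le]
      intro g _ h _
      obtain ⟨a, ha, b, hb, rfl⟩ := Subgroup.mem_sup_of_normal_right.1 (hs' ▸ Subgroup.mem_top g)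
      obtain ⟨c, hc₂, d, hd, rfl⟩ := Subgroup.mem_sup_of_normal_right.1 (hs' ▸ Subgroup.mem_top h)
      have hb' := Subgroup.mem_center_iff.1 (hTK hb)
      have hd' := Subgroup.mem_center_iff.1 (hTK hd)
      have key : ⁅a * b, c * d⁆ = ⁅a, c⁆ := by
        simp only [commutatorElement_def, mul_inv_rev]
        calc a * b * (c * d) * (b⁻¹ * a⁻¹) * (d⁻¹ * c⁻¹)
            = a * ((c * d) * b) * (b⁻¹ * a⁻¹) * (d⁻¹ * c⁻¹) := by rw [hb' (c * d)]; group
          _ = a * c * (d * a⁻¹) * (d⁻¹ * c⁻¹) := by group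
          _ = a * c * (a⁻¹ * d) * (d⁻¹ * c⁻¹) := by rw [hd' a⁻¹]
          _ = a * c * a⁻¹ * c⁻¹ := by group
      rw [key, commutatorElement_def]
      exact S.mul_mem (S.mul_mem (S.mul_mem ha hc₂) (S.inv_mem ha)) (S.inv_mem hc₂)
    have hsingle : ∀ i, commutator (W i) ≤
        (S.map K.subtype).comap (MonoidHom.mulSingle W i) := by
      intro i
      rw [commutator_def, Subgroup.commutator_le]
      intro x _ y _
      rw [Subgroup.mem_comap, MonoidHom.mulSingle_apply]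
      obtain ⟨j, hj⟩ := hother i
      obtain ⟨o, ho⟩ := hs j (-1)
      have hy' : ∀ u : ℤˣ, ∃ e : W j, s j e = u ∧ (e = 1 ∨ e = o) := by
        intro u
        rcases Int.units_eq_one_or u with h | h
        · exact ⟨1, by rw [map_one, h], Or.inl rfl⟩
        · exact ⟨o, by rw [ho, h], Or.inr rfl⟩
      obtain ⟨e, he, he'⟩ := hy' (s i x)
      obtain ⟨f, hf, hf'⟩ := hy' (s i y)
      refine ⟨⁅(⟨_, hlift i j hj x e he.symm⟩ : K), ⟨_, hlift i j hj y f hf.symm⟩⁆,
        hcom (Subgroup.commutator_mem_commutator (Subgroup.mem_top _) (Subgroup.mem_top _)), ?_⟩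
      simp only [map_commutatorElement, Subgroup.subtype_apply]
      funext k
      rcases eq_or_ne k i with rfl | hki
      · simp [commutatorElement_def, Pi.mulSingle_eq_of_ne hj]
      · rcases eq_or_ne k j with rfl | hkj
        · rcases he' with rfl | rfl <;> rcases hf' with rfl | rfl <;>
            simp [commutatorElement_def, Pi.mulSingle_eq_of_ne hki]
        · simp [commutatorElement_def, Pi.mulSingle_eq_of_ne hki, Pi.mulSingle_eq_of_ne hkj]
    rw [eq_bot_iff, ← hi']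
    refine fun t ht => ⟨?_, ht⟩
    have hmem : (t : ∀ i, W i) ∈ S.map K.subtype :=
      Subgroup.pi_mem_of_mulSingle_mem _ fun i => hsingle i (hZ i (hTc i ⟨t, ht, rfl⟩))
    obtain ⟨s', hs'', hse⟩ := hmem
    rw [← Subtype.ext hse]
    exact hs''
  -- both kinds of indices occur
  obtain ⟨i0, hi0⟩ : ∃ i, ¬ A.map (π i) ≤ Subgroup.center (W i) := by
    by_contra h
    push Not at h
    exact hA (key B A (fun b hb a ha => (hc a ha b hb).symm) (by rw [sup_comm, hsup])
      (by rw [inf_comm, hi]) h)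
  obtain ⟨j0, hj0⟩ : ∃ i, ¬ B.map (π i) ≤ Subgroup.center (W i) := by
    by_contra h
    push Not at h
    exact hB (key A B hc hsup hi h)
  have hi0' : B.map (π i0) ≤ Subgroup.center (W i0) :=
    (hTi i0).elim (fun h => h.2) fun h => absurd h.2 hi0
  let I : Finset ι := Finset.univ.filter fun i => B.map (π i) ≤ Subgroup.center (W i)
  let σ : K →* ℤˣ := ∏ i ∈ I, (s i).comp (π i)
  have hσ : ∀ x : K, σ x = ∏ i ∈ I, s i (π i x) := fun x => by simp [σ]
  have hBker : B ≤ σ.ker := by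
    intro b hb
    rw [MonoidHom.mem_ker, hσ]
    exact Finset.prod_eq_one fun i hiI => hev i _ ((Finset.mem_filter.1 hiI).2 ⟨b, hb, rfl⟩)
  have hAker : A ≤ σ.ker := by
    intro a ha
    rw [MonoidHom.mem_ker, hσ]
    have htot : ∏ i, s i (π i a) = 1 := (totalSign_apply s a.1).symm.trans (MonoidHom.mem_ker.1 (hK.le a.2))
    rw [← htot]
    refine Finset.prod_subset (Finset.subset_univ _) fun i _ hiI => hev i _ ?_
    have hni : ¬ B.map (π i) ≤ Subgroup.center (W i) := fun h =>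
      hiI (Finset.mem_filter.2 ⟨Finset.mem_univ i, h⟩)
    exact ((hTi i).resolve_left fun h => hni h.2).2 ⟨a, ha, rfl⟩
  have hall : ∀ x : K, σ x = 1 := by
    intro x
    have hle : A ⊔ B ≤ σ.ker := sup_le hAker hBker
    rw [hsup] at hle
    exact hle (Subgroup.mem_top x)
  obtain ⟨o, ho⟩ := hs i0 (-1)
  obtain ⟨o', ho'⟩ := hs j0 (-1)
  have hij : i0 ≠ j0 := fun h => hj0 (h ▸ hi0')
  have h1 := hall ⟨_, hlift i0 j0 hij o o' (ho.trans ho'.symm)⟩
  rw [hσ, Finset.prod_eq_single i0] at h1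
  · simp [π, Pi.mulSingle_eq_of_ne hij, ho] at h1
  · intro k hk hki
    have hkj : k ≠ j0 := fun h => hj0 (h ▸ (Finset.mem_filter.1 hk).2)
    simp [π, Pi.mulSingle_eq_of_ne hki, Pi.mulSingle_eq_of_ne hkj]
  · exact fun h => absurd (Finset.mem_filter.2 ⟨Finset.mem_univ i0, hi0'⟩) h

end Cfsg.Agent.Perm.AltSylowTwo
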