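import Mathlib

/-!
The tower of Sylow 2-subgroups of the symmetric groups of degree `2 ^ r`, its centre and
the lemma that it is not a product of two proper commuting subgroups.
-/

set_option autoImplicit false

namespace Cfsg.Agent.Perm.AltSylowTwo

open Equiv
open scoped commutatorElement

variable {α : Type*}

/-- the swap of the two halves -/
def swapHalves (α : Type*) : Equiv.Perm (α ⊕ α) := Equiv.sumComm α α

theorem swapHalves_mul_self : swapHalves α * swapHalves α = 1 := by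
  ext x; cases x <;> rfl

theorem swapHalves_mul_sumCongr (a b : Perm α) :
    swapHalves α * Perm.sumCongr a b = Perm.sumCongr b a * swapHalves α := by
  ext x; cases x <;> rfl

theorem swapHalves_inv : (swapHalves α)⁻¹ = swapHalves α :=
  inv_eq_of_mul_eq_one_left swapHalves_mul_self

theorem sumCongr_inj {a b c d : Perm α} (h : Perm.sumCongr a b = Perm.sumCongr c d) :
    a = c ∧ b = d :=
  Prod.ext_iff.1 (Perm.sumCongrHom_injective (α := α) (β := α) (a₁ := (a, b)) (a₂ := (c, d)) h)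

theorem sumCongr_ne_mul_swap [Nonempty α] (a b c d : Perm α) :
    Perm.sumCongr a b ≠ Perm.sumCongr c d * swapHalves α := by
  intro h
  obtain ⟨x⟩ := ‹Nonempty α›
  have := DFunLike.congr_fun h (Sum.inl x)
  simp [swapHalves] at this

theorem swap_mul_inj {a b c d : Perm α}
    (h : Perm.sumCongr a b * swapHalves α = Perm.sumCongr c d * swapHalves α) : a = c ∧ b = d :=
  sumCongr_inj (mul_right_cancel h)

theorem one_sumCongr_one : Perm.sumCongr (1 : Perm α) (1 : Perm α) = 1 := Perm.sumCongr_one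

theorem sumCongr_inv' (a b : Perm α) : (Perm.sumCongr a b)⁻¹ = Perm.sumCongr a⁻¹ b⁻¹ :=
  Perm.sumCongr_inv a b

/-- one step of the tower: `H wr C₂` -/
def next (H : Subgroup (Perm α)) : Subgroup (Perm (α ⊕ α)) where
  carrier := {σ | ∃ a ∈ H, ∃ b ∈ H, σ = Perm.sumCongr a b ∨ σ = Perm.sumCongr a b * swapHalves α}
  one_mem' := ⟨1, H.one_mem, 1, H.one_mem, Or.inl one_sumCongr_one.symm⟩
  mul_mem' := by
    rintro _ _ ⟨a, ha, b, hb, rfl | rfl⟩ ⟨c, hc, d, hd, rfl | rfl⟩
    · exact ⟨a * c, H.mul_mem ha hc, b * d, H.mul_mem hb hd, Or.inl (Perm.sumCongr_mul a b c d)⟩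
    · exact ⟨a * c, H.mul_mem ha hc, b * d, H.mul_mem hb hd,
        Or.inr (by rw [← mul_assoc, Perm.sumCongr_mul])⟩
    · refine ⟨a * d, H.mul_mem ha hd, b * c, H.mul_mem hb hc, Or.inr ?_⟩
      rw [mul_assoc, swapHalves_mul_sumCongr, ← mul_assoc, Perm.sumCongr_mul]
    · refine ⟨a * d, H.mul_mem ha hd, b * c, H.mul_mem hb hc, Or.inl ?_⟩
      rw [mul_assoc, ← mul_assoc (swapHalves α), swapHalves_mul_sumCongr, mul_assoc,
        swapHalves_mul_self, mul_one, Perm.sumCongr_mul]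
  inv_mem' := by
    rintro _ ⟨a, ha, b, hb, rfl | rfl⟩
    · exact ⟨a⁻¹, H.inv_mem ha, b⁻¹, H.inv_mem hb, Or.inl (sumCongr_inv' a b)⟩
    · refine ⟨b⁻¹, H.inv_mem hb, a⁻¹, H.inv_mem ha, Or.inr ?_⟩
      rw [mul_inv_rev, swapHalves_inv, sumCongr_inv', swapHalves_mul_sumCongr]

variable {H : Subgroup (Perm α)}

theorem base_mem {a b : Perm α} (ha : a ∈ H) (hb : b ∈ H) : Perm.sumCongr a b ∈ next H :=
  ⟨a, ha, b, hb, Or.inl rfl⟩

theorem swap_mem : swapHalves α ∈ next H :=
  ⟨1, H.one_mem, 1, H.one_mem, Or.inr (by rw [one_sumCongr_one, one_mul])⟩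

theorem card_next [Finite α] [Nonempty α] :
    Nat.card (next H) = 2 * (Nat.card H * Nat.card H) := by
  classical
  have hbij : Function.Bijective (fun x : (H × H) × Bool =>
      (bif x.2 then (⟨Perm.sumCongr (x.1.1 : Perm α) (x.1.2 : Perm α) * swapHalves α,
          ⟨x.1.1, x.1.1.2, x.1.2, x.1.2.2, Or.inr rfl⟩⟩ : next H)
        else ⟨Perm.sumCongr (x.1.1 : Perm α) (x.1.2 : Perm α), base_mem x.1.1.2 x.1.2.2⟩)) := by
    constructor
    · rintro ⟨⟨a, b⟩, u⟩ ⟨⟨c, d⟩, v⟩ h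
      replace h := congrArg Subtype.val h
      cases u <;> cases v <;> simp only [cond_true, cond_false] at h
      · obtain ⟨h1, h2⟩ := sumCongr_inj h
        rw [Subtype.ext h1, Subtype.ext h2]
      · exact (sumCongr_ne_mul_swap _ _ _ _ h).elim
      · exact (sumCongr_ne_mul_swap _ _ _ _ h.symm).elim
      · obtain ⟨h1, h2⟩ := swap_mul_inj h
        rw [Subtype.ext h1, Subtype.ext h2]
    · rintro ⟨σ, a, ha, b, hb, rfl | rfl⟩
      · exact ⟨((⟨a, ha⟩, ⟨b, hb⟩), false), rfl⟩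
      · exact ⟨((⟨a, ha⟩, ⟨b, hb⟩), true), rfl⟩
  rw [← Nat.card_eq_of_bijective _ hbij, Nat.card_prod, Nat.card_prod]
  simp only [Nat.card_eq_fintype_card, Fintype.card_bool]
  ring

/-! ### the central elements -/

/-- an element of `H wr C₂` commuting with `(g, 1)`, `g ≠ 1`, lies in the base -/
theorem mem_base_of_commute [Nonempty α] {σ : Perm (α ⊕ α)} (hσ : σ ∈ next H) {g : Perm α}
    (hg : g ≠ 1) (hc : σ * Perm.sumCongr g 1 = Perm.sumCongr g 1 * σ) :
    ∃ a ∈ H, ∃ b ∈ H, σ = Perm.sumCongr a b := by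
  obtain ⟨a, ha, b, hb, rfl | rfl⟩ := hσ
  · exact ⟨a, ha, b, hb, rfl⟩
  · exfalso
    rw [mul_assoc, swapHalves_mul_sumCongr, ← mul_assoc, ← mul_assoc, Perm.sumCongr_mul,
      Perm.sumCongr_mul] at hc
    obtain ⟨h1, h2⟩ := swap_mul_inj hc
    rw [mul_one] at h1
    exact hg (mul_eq_right.1 h1.symm)

theorem eq_of_commute_swap {a b : Perm α}
    (hc : Perm.sumCongr a b * swapHalves α = swapHalves α * Perm.sumCongr a b) : a = b := by
  rw [swapHalves_mul_sumCongr] at hc
  exact (swap_mul_inj hc).1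

theorem commute_of_commute_left {a b g : Perm α}
    (hc : Perm.sumCongr a b * Perm.sumCongr g 1 = Perm.sumCongr g 1 * Perm.sumCongr a b) :
    a * g = g * a := by
  rw [Perm.sumCongr_mul, Perm.sumCongr_mul] at hc
  exact (sumCongr_inj hc).1

/-- the centre: at most two elements, squaring to one, in the derived group -/
def SmallCentre {β : Type*} (K : Subgroup (Perm β)) : Prop :=
  ∀ x ∈ K, (∀ k ∈ K, x * k = k * x) → x * x = 1 ∧
    ∀ y ∈ K, (∀ k ∈ K, y * k = k * y) → x = 1 ∨ y = 1 ∨ x = y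

theorem central_next [Nonempty α] (hne : ∃ g ∈ H, g ≠ 1) {x : Perm (α ⊕ α)} (hx : x ∈ next H)
    (hc : ∀ k ∈ next H, x * k = k * x) :
    ∃ p ∈ H, (∀ h ∈ H, p * h = h * p) ∧ x = Perm.sumCongr p p := by
  obtain ⟨g, hg, hg1⟩ := hne
  obtain ⟨a, ha, b, hb, rfl⟩ := mem_base_of_commute hx hg1 (hc _ (base_mem hg H.one_mem))
  have hab : a = b := eq_of_commute_swap (hc _ swap_mem)
  subst hab
  exact ⟨a, ha, fun h hh => commute_of_commute_left (hc _ (base_mem hh H.one_mem)), rfl⟩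

theorem smallCentre_next [Nonempty α] (hne : ∃ g ∈ H, g ≠ 1) (hS : SmallCentre H) :
    SmallCentre (next H) := by
  intro x hx hcx
  obtain ⟨p, hp, hpc, rfl⟩ := central_next hne hx hcx
  obtain ⟨hp2, hpu⟩ := hS p hp hpc
  refine ⟨by rw [Perm.sumCongr_mul, hp2, one_sumCongr_one], fun y hy hcy => ?_⟩
  obtain ⟨q, hq, hqc, rfl⟩ := central_next hne hy hcy
  rcases hpu q hq hqc with h | h | h
  · exact Or.inl (by rw [h, one_sumCongr_one])
  · exact Or.inr (Or.inl (by rw [h, one_sumCongr_one]))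
  · exact Or.inr (Or.inr (by rw [h]))

theorem central_mem_commutator [Nonempty α] (hne : ∃ g ∈ H, g ≠ 1) (hS : SmallCentre H)
    {x : next H} (hx : x ∈ Subgroup.center (next H)) : x ∈ commutator (next H) := by
  obtain ⟨p, hp, hpc, hxe⟩ := central_next hne x.2 fun k hk =>
    congrArg Subtype.val ((Subgroup.mem_center_iff.1 hx ⟨k, hk⟩).symm)
  have hp2 : p⁻¹ = p := inv_eq_of_mul_eq_one_left (hS p hp hpc).1
  have hxc : x = ⁅(⟨Perm.sumCongr p 1, base_mem hp H.one_mem⟩ : next H),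
      ⟨swapHalves α, swap_mem⟩⁆ := by
    apply Subtype.ext
    simp only [commutatorElement_def, Subgroup.coe_mul, InvMemClass.coe_inv]
    rw [hxe, sumCongr_inv', swapHalves_inv, inv_one, mul_assoc (Perm.sumCongr p 1),
      swapHalves_mul_sumCongr, ← mul_assoc, Perm.sumCongr_mul, mul_assoc, swapHalves_mul_self,
      mul_one, mul_one, one_mul, hp2]
  rw [hxc, commutator_def]
  exact Subgroup.commutator_mem_commutator (Subgroup.mem_top _) (Subgroup.mem_top _)

/-! ### no product decompositions -/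

theorem commute_of_small {G : Type*} [Group G] {A : Subgroup G} {N : Subgroup G}
    (hN : ∀ x ∈ N, x ∈ A → x ∈ Subgroup.center G)
    (hindex : ∀ x ∈ A, ∀ y ∈ A, x ∉ N → y ∉ N → x⁻¹ * y ∈ N) :
    ∀ x ∈ A, ∀ y ∈ A, x * y = y * x := by
  intro x hx y hy
  by_cases hxN : x ∈ N
  · exact (Subgroup.mem_center_iff.1 (hN x hxN hx) y).symm
  by_cases hyN : y ∈ N
  · exact Subgroup.mem_center_iff.1 (hN y hyN hy) x
  have hz := hN _ (hindex x hx y hy hxN hyN) (A.mul_mem (A.inv_mem hx) hy)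
  have := Subgroup.mem_center_iff.1 hz x
  calc x * y = x * (x * (x⁻¹ * y)) := by group
    _ = x * (x⁻¹ * y * x) := by rw [this]
    _ = y * x := by group

/-- commuting subgroups generating `G` form a product -/
def Tight (G : Type*) [Group G] : Prop :=
  ∀ A B : Subgroup G, (∀ a ∈ A, ∀ b ∈ B, a * b = b * a) → A ⊔ B = ⊤ →
    (A = ⊤ ∧ B ≤ Subgroup.center G) ∨ (B = ⊤ ∧ A ≤ Subgroup.center G)

theorem conj_mem_right {G : Type*} [Group G] {A B : Subgroup G}
    (hc : ∀ a ∈ A, ∀ b ∈ B, a * b = b * a) (hs : A ⊔ B = ⊤) (g : G) {b : G} (hb : b ∈ B) :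
    g * b * g⁻¹ ∈ B := by
  have hle : A ⊔ B ≤ Subgroup.normalizer (B : Set G) := by
    refine sup_le (fun a ha => ?_) Subgroup.le_normalizer
    rw [Subgroup.mem_normalizer_iff]
    intro x
    constructor
    · intro hx
      rw [hc a ha x hx, mul_inv_cancel_right]
      exact hx
    · intro hx
      have h1 : a⁻¹ * (a * x * a⁻¹) = (a * x * a⁻¹) * a⁻¹ := hc a⁻¹ (A.inv_mem ha) _ hx
      have h2 : x * a⁻¹ = a * x * a⁻¹ * a⁻¹ := by rw [← h1]; group
      rwa [mul_right_cancel h2]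
  rw [hs] at hle
  exact (Subgroup.mem_normalizer_iff.1 (hle (Subgroup.mem_top g)) b).1 hb

theorem eq_top_of_sup_center {G : Type*} [Group G] {A B : Subgroup G}
    (hB : B ≤ Subgroup.center G) (hs : A ⊔ B = ⊤)
    (hZ : Subgroup.center G ≤ commutator G) : A = ⊤ := by
  have hAn : ∀ g : G, ∀ a ∈ A, g * a * g⁻¹ ∈ A := by
    intro g a ha
    exact conj_mem_right (A := B) (B := A) (fun b hb a' _ =>
      (Subgroup.mem_center_iff.1 (hB hb) a').symm) (by rw [sup_comm, hs]) g ha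
  have hn : A.Normal := ⟨fun a ha g => hAn g a ha⟩
  have hmem : ∀ g : G, ∃ a ∈ A, ∃ b ∈ B, a * b = g := fun g => by
    have hg : g ∈ A ⊔ B := hs ▸ Subgroup.mem_top g
    exact Subgroup.mem_sup_of_normal_left.1 hg
  have hcomm : commutator G ≤ A := by
    rw [commutator_def, Subgroup.commutator_le]
    intro g _ h _
    obtain ⟨a, ha, b, hb, rfl⟩ := hmem g
    obtain ⟨c, hc, d, hd, rfl⟩ := hmem h
    have hb' := Subgroup.mem_center_iff.1 (hB hb)
    have hd' := Subgroup.mem_center_iff.1 (hB hd)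
    have key : ⁅a * b, c * d⁆ = ⁅a, c⁆ := by
      simp only [commutatorElement_def, mul_inv_rev]
      calc a * b * (c * d) * (b⁻¹ * a⁻¹) * (d⁻¹ * c⁻¹)
          = a * ((c * d) * b) * (b⁻¹ * a⁻¹) * (d⁻¹ * c⁻¹) := by rw [hb' (c * d)]; group
        _ = a * c * (d * a⁻¹) * (d⁻¹ * c⁻¹) := by group
        _ = a * c * (a⁻¹ * d) * (d⁻¹ * c⁻¹) := by rw [hd' a⁻¹]
        _ = a * c * a⁻¹ * c⁻¹ := by group
    rw [key, commutatorElement_def]
    exact A.mul_mem (A.mul_mem (A.mul_mem ha hc) (A.inv_mem ha)) (A.inv_mem hc)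
  rw [eq_top_iff]
  intro g _
  obtain ⟨a, ha, b, hb, rfl⟩ := hmem g
  exact A.mul_mem ha (hcomm (hZ (hB hb)))

/-- the base subgroup -/
def base (H : Subgroup (Perm α)) : Subgroup (next H) :=
  ((H.prod H).map (Perm.sumCongrHom α α)).subgroupOf (next H)

theorem mem_base {x : next H} :
    x ∈ base H ↔ ∃ a ∈ H, ∃ b ∈ H, (x : Perm (α ⊕ α)) = Perm.sumCongr a b := by
  simp only [base, Subgroup.mem_subgroupOf, Subgroup.mem_map, Subgroup.mem_prod, Prod.exists,
    Perm.sumCongrHom_apply]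
  constructor
  · rintro ⟨a, b, ⟨ha, hb⟩, h⟩; exact ⟨a, ha, b, hb, h.symm⟩
  · rintro ⟨a, ha, b, hb, h⟩; exact ⟨a, b, ⟨ha, hb⟩, h.symm⟩

theorem exists_of_not_mem_base {x : next H} (hx : x ∉ base H) :
    ∃ a ∈ H, ∃ b ∈ H, (x : Perm (α ⊕ α)) = Perm.sumCongr a b * swapHalves α := by
  obtain ⟨a, ha, b, hb, h | h⟩ := x.2
  · exact absurd (mem_base.2 ⟨a, ha, b, hb, h⟩) hx
  · exact ⟨a, ha, b, hb, h⟩

theorem inv_mul_mem_base {x y : next H} (hx : x ∉ base H) (hy : y ∉ base H) :
    x⁻¹ * y ∈ base H := by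
  obtain ⟨a, ha, b, hb, hxe⟩ := exists_of_not_mem_base hx
  obtain ⟨c, hc, d, hd, hye⟩ := exists_of_not_mem_base hy
  refine mem_base.2 ⟨b⁻¹ * d, H.mul_mem (H.inv_mem hb) hd, a⁻¹ * c,
    H.mul_mem (H.inv_mem ha) hc, ?_⟩
  rw [Subgroup.coe_mul, InvMemClass.coe_inv, hxe, hye, mul_inv_rev, swapHalves_inv, sumCongr_inv',
    mul_assoc, ← mul_assoc (Perm.sumCongr a⁻¹ b⁻¹), Perm.sumCongr_mul, ← mul_assoc,
    swapHalves_mul_sumCongr, mul_assoc, swapHalves_mul_self, mul_one]

theorem base_inf_le_center [Nonempty α] {A B : Subgroup (next H)}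
    (hcm : ∀ a ∈ A, ∀ b ∈ B, a * b = b * a) (hs : A ⊔ B = ⊤) (hA : ¬ A ≤ base H) :
    ∀ b ∈ base H, b ∈ B → b ∈ Subgroup.center (next H) := by
  obtain ⟨a, haA, ha⟩ := Set.not_subset.1 hA
  obtain ⟨u, hu, v, hv, hae⟩ := exists_of_not_mem_base ha
  have key : ∀ p q : Perm α, ∀ hp : Perm.sumCongr p q ∈ next H,
      (⟨_, hp⟩ : next H) ∈ B → q = v * p * v⁻¹ := by
    intro p q hp hB
    have h := congrArg Subtype.val (hcm a haA _ hB)
    simp only [Subgroup.coe_mul, hae] at h
    rw [mul_assoc, swapHalves_mul_sumCongr, ← mul_assoc, ← mul_assoc, Perm.sumCongr_mul,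
      Perm.sumCongr_mul] at h
    obtain ⟨h1, h2⟩ := swap_mul_inj h
    rw [h2]; group
  rintro ⟨b, hbn⟩ hb hbB
  obtain ⟨p, hp, q, hq, hbe⟩ := mem_base.1 hb
  simp only at hbe
  subst hbe
  have hq' := key p q hbn hbB
  have hpc : ∀ g ∈ H, g * p = p * g := by
    intro g hg
    have hconj := conj_mem_right hcm hs ⟨Perm.sumCongr g 1, base_mem hg H.one_mem⟩ hbB
    have he : (⟨Perm.sumCongr g 1, base_mem hg H.one_mem⟩ : next H) * ⟨Perm.sumCongr p q, hbn⟩ *
        (⟨Perm.sumCongr g 1, base_mem hg H.one_mem⟩ : next H)⁻¹ =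
        ⟨Perm.sumCongr (g * p * g⁻¹) q, base_mem (H.mul_mem (H.mul_mem hg hp) (H.inv_mem hg)) hq⟩ := by
      apply Subtype.ext
      simp only [Subgroup.coe_mul, InvMemClass.coe_inv]
      rw [sumCongr_inv', Perm.sumCongr_mul, Perm.sumCongr_mul, inv_one, mul_one, one_mul]
    rw [he] at hconj
    have h3 := key _ q _ hconj
    rw [hq'] at h3
    have h4 : p = g * p * g⁻¹ := mul_left_cancel (mul_right_cancel h3)
    calc g * p = g * p * g⁻¹ * g := by group
      _ = p * g := by rw [← h4]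
  have hqp : q = p := by rw [hq', hpc v hv]; group
  subst hqp
  rw [Subgroup.mem_center_iff]
  rintro ⟨k, c, hc, d, hd, rfl | rfl⟩
  · apply Subtype.ext
    simp only [Subgroup.coe_mul]
    rw [Perm.sumCongr_mul, Perm.sumCongr_mul, hpc c hc, hpc d hd]
  · apply Subtype.ext
    simp only [Subgroup.coe_mul]
    rw [mul_assoc, swapHalves_mul_sumCongr, ← mul_assoc, ← mul_assoc, Perm.sumCongr_mul,
      Perm.sumCongr_mul, hpc c hc, hpc d hd]

theorem tight_aux [Nonempty α] (hne : ∃ g ∈ H, g ≠ 1) (hS : SmallCentre H)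
    {A B : Subgroup (next H)} (hcm : ∀ a ∈ A, ∀ b ∈ B, a * b = b * a) (hs : A ⊔ B = ⊤)
    (hA : ¬ A ≤ base H) : A = ⊤ ∧ B ≤ Subgroup.center (next H) := by
  have hBc : B ≤ Subgroup.center (next H) := by
    by_cases hB : B ≤ base H
    · exact fun b hb => base_inf_le_center hcm hs hA b (hB hb) hb
    · exfalso
      have hA' := commute_of_small (A := A) (N := base H)
        (base_inf_le_center (fun b hb a ha => (hcm a ha b hb).symm) (by rw [sup_comm, hs]) hB)
        (fun x _ y _ hx hy => inv_mul_mem_base hx hy)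
      have hB' := commute_of_small (A := B) (N := base H) (base_inf_le_center hcm hs hA)
        (fun x _ y _ hx hy => inv_mul_mem_base hx hy)
      have hall : ∀ x y : next H, x * y = y * x := by
        have h1 : (⊤ : Subgroup (next H)) ≤ Subgroup.center (next H) := by
          rw [← hs]
          have hcent : ∀ x : next H, (∀ a ∈ A, a * x = x * a) → (∀ b ∈ B, b * x = x * b) →
              x ∈ Subgroup.center (next H) := by
            intro x h1 h2
            have hle : A ⊔ B ≤ Subgroup.centralizer {x} := by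
              refine sup_le (fun a ha => ?_) (fun b hb => ?_) <;>
                rw [Subgroup.mem_centralizer_singleton_iff]
              · exact h1 a ha
              · exact h2 b hb
            rw [hs] at hle
            exact Subgroup.mem_center_iff.2 fun g =>
              Subgroup.mem_centralizer_singleton_iff.1 (hle (Subgroup.mem_top g))
          exact sup_le
            (fun a ha => hcent a (fun a' ha' => hA' a' ha' a ha) fun b hb => (hcm a ha b hb).symm)
            (fun b hb => hcent b (fun a ha => hcm a ha b hb) fun b' hb' => hB' b' hb' b hb)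
        intro x y
        exact (Subgroup.mem_center_iff.1 (h1 (Subgroup.mem_top x)) y).symm
      obtain ⟨g, hg, hg1⟩ := hne
      have h := congrArg Subtype.val (hall ⟨swapHalves α, swap_mem⟩
        ⟨Perm.sumCongr g 1, base_mem hg H.one_mem⟩)
      simp only [Subgroup.coe_mul] at h
      rw [swapHalves_mul_sumCongr] at h
      exact hg1 (swap_mul_inj h).1.symm
  exact ⟨eq_top_of_sup_center hBc hs fun x hx => central_mem_commutator hne hS hx, hBc⟩

theorem tight_next [Nonempty α] (hne : ∃ g ∈ H, g ≠ 1) (hS : SmallCentre H) :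
    Tight (next H) := by
  intro A B hcm hs
  by_cases hA : A ≤ base H
  · by_cases hB : B ≤ base H
    · exfalso
      have hle : (⊤ : Subgroup (next H)) ≤ base H := hs ▸ sup_le hA hB
      obtain ⟨a, _, b, _, h⟩ := mem_base.1 (hle (Subgroup.mem_top ⟨swapHalves α, swap_mem⟩))
      refine sumCongr_ne_mul_swap a b 1 1 ?_
      rw [one_sumCongr_one, one_mul]
      exact h.symm
    · exact Or.inr (tight_aux hne hS (fun b hb a ha => (hcm a ha b hb).symm)
        (by rw [sup_comm, hs]) hB)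
  · exact Or.inl (tight_aux hne hS hcm hs hA)

end Cfsg.Agent.Perm.AltSylowTwo
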